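import Groth.Agent.H14.D15.DepthLoc
import Groth.Agent.H14.D34
import Mathlib.RingTheory.Ideal.AssociatedPrime.Finiteness
import Mathlib.RingTheory.Ideal.AssociatedPrime.Localization
import Mathlib.RingTheory.Localization.Finiteness

set_option autoImplicit false
universe u

namespace Groth.Agent.H14.ZClos

open IsLocalRing RingTheory.Sequence

section General

variable {R : Type u} [CommRing R]

/-- If `x ∈ I` is `M`-regular and `M/xM` has `I`-depth at least one, then `M` has `I`-depth at
least two. -/
theorem two_le_idealDepth_of_one_le_quot (I : Ideal R) (M : Type u) [AddCommGroup M] [Module R M]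
    (x : R) (hxI : x ∈ I) (hx : IsSMulRegular M x)
    (h : 1 ≤ LocCoh.idealDepth I (QuotSMulTop x M)) : 2 ≤ LocCoh.idealDepth I M := by
  by_cases htop : I • (⊤ : Submodule R M) = ⊤
  · rw [D34.idealDepth_of_smul_top_eq_top I M htop]
    exact le_top
  · have hq : I • (⊤ : Submodule R (QuotSMulTop x M)) ≠ ⊤ :=
      D15.smul_top_quotSMulTop_ne_top hxI htop
    obtain ⟨y, hyI, hy⟩ := D34.exists_regular_of_one_le_idealDepth I _ hq h
    exact D34.two_le_idealDepth_of_regular I M x y hxI hyI hx hy

end General

section Loc

variable {A : Type u} [CommRing A] [IsNoetherianRing A]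
variable (M : Type u) [AddCommGroup M] [Module A M] [Module.Finite A M]

/-- `1 ≤ depth M_p` iff `p` is not an associated prime of `M`. -/
theorem one_le_depth_localization_iff (p : Ideal A) [p.IsPrime] :
    1 ≤ LocCoh.depth (Localization.AtPrime p) (LocalizedModule p.primeCompl M) ↔
      p ∉ associatedPrimes A M := by
  constructor
  · intro h hp
    have h0 := D15.depth_localization_eq_zero_of_mem_associatedPrimes M p hp
    have := h.trans h0
    simp at this
  · intro hp
    by_cases htop : maximalIdeal (Localization.AtPrime p) •
        (⊤ : Submodule (Localization.AtPrime p) (LocalizedModule p.primeCompl M)) = ⊤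
    · unfold LocCoh.depth
      rw [D34.idealDepth_of_smul_top_eq_top _ _ htop]
      exact le_top
    · have hmax : maximalIdeal (Localization.AtPrime p) ∉
          associatedPrimes (Localization.AtPrime p) (LocalizedModule p.primeCompl M) := by
        intro hmem
        apply hp
        have hcomap : (maximalIdeal (Localization.AtPrime p)).comap
            (algebraMap A (Localization.AtPrime p)) = p :=
          IsLocalization.AtPrime.comap_maximalIdeal (Localization.AtPrime p) p
        have := Module.associatedPrimes.comap_mem_associatedPrimes_of_mem_associatedPrimes_of_isLocalizedModule_of_fg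
          p.primeCompl (LocalizedModule.mkLinearMap p.primeCompl M)
          (maximalIdeal (Localization.AtPrime p)) hmem
          (by rw [hcomap]; exact (isNoetherianRing_iff_ideal_fg A).mp inferInstance p)
        rwa [hcomap] at this
      -- prime avoidance in the local ring
      have hfin : (associatedPrimes (Localization.AtPrime p)
          (LocalizedModule p.primeCompl M)).Finite := associatedPrimes.finite _ _
      have hex : ∃ r ∈ maximalIdeal (Localization.AtPrime p),
          IsSMulRegular (LocalizedModule p.primeCompl M) r := by
        by_contra hcon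
        push Not at hcon
        rcases subsingleton_or_nontrivial (LocalizedModule p.primeCompl M) with hM | hM
        · exact hcon 0 (Ideal.zero_mem _) (IsSMulRegular.zero)
        rcases associatedPrimes.nonempty (Localization.AtPrime p)
          (LocalizedModule p.primeCompl M) with ⟨Ia, hIa⟩
        have hexist : ∃ q ∈ associatedPrimes (Localization.AtPrime p)
            (LocalizedModule p.primeCompl M), maximalIdeal (Localization.AtPrime p) ≤ q := by
          apply (Ideal.subset_union_prime_finite hfin Ia Ia _).mp
          · rw [biUnion_associatedPrimes_eq_compl_regular]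
            exact fun r hr ↦ hcon r hr
          · exact fun I hin _ _ ↦ IsAssociatedPrime.isPrime hin
        obtain ⟨q, hq, hle⟩ := hexist
        have hqprime : q.IsPrime := IsAssociatedPrime.isPrime hq
        have : maximalIdeal (Localization.AtPrime p) = q :=
          (maximalIdeal.isMaximal _).eq_of_le hqprime.ne_top hle
        exact hmax (this ▸ hq)
      obtain ⟨r, hr, hreg⟩ := hex
      exact D34.one_le_idealDepth_of_regular _ _ r hr hreg

/-- If `a ∈ p` is `M`-regular and `p` is not an associated prime of `M/aM` then `depth M_p ≥ 2`. -/
theorem two_le_depth_localization_of (p : Ideal A) [p.IsPrime] (a : A) (hap : a ∈ p)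
    (ha : IsSMulRegular M a) (hp : p ∉ associatedPrimes A (QuotSMulTop a M)) :
    2 ≤ LocCoh.depth (Localization.AtPrime p) (LocalizedModule p.primeCompl M) := by
  have h1 := (one_le_depth_localization_iff (QuotSMulTop a M) p).mpr hp
  have hf : IsBaseChange (Localization.AtPrime p) (LocalizedModule.mkLinearMap p.primeCompl M) :=
    IsLocalizedModule.isBaseChange p.primeCompl (Localization.AtPrime p) _
  have hf' : IsBaseChange (Localization.AtPrime p)
      (LocalizedModule.mkLinearMap p.primeCompl (QuotSMulTop a M)) :=
    IsLocalizedModule.isBaseChange p.primeCompl (Localization.AtPrime p) _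
  have : Module.Flat A (Localization.AtPrime p) := IsLocalization.flat _ p.primeCompl
  let e : QuotSMulTop (algebraMap A (Localization.AtPrime p) a) (LocalizedModule p.primeCompl M)
      ≃ₗ[Localization.AtPrime p] LocalizedModule p.primeCompl (QuotSMulTop a M) :=
    ((QuotSMulTop.algebraMapTensorEquivTensorQuotSMulTop a M (Localization.AtPrime p)).symm ≪≫ₗ
      QuotSMulTop.congr (algebraMap A (Localization.AtPrime p) a) hf.equiv).symm ≪≫ₗ hf'.equiv
  unfold LocCoh.depth at h1 ⊢
  rw [← D15.idealDepth_congr e] at h1
  have hmem : algebraMap A (Localization.AtPrime p) a ∈ maximalIdeal (Localization.AtPrime p) :=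
    (IsLocalization.AtPrime.to_map_mem_maximal_iff (Localization.AtPrime p) p a).mpr hap
  exact two_le_idealDepth_of_one_le_quot _ _ _ hmem (ha.of_flat_of_isBaseChange hf) h1

end Loc

end Groth.Agent.H14.ZClos
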