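import Groth.Agent.H14.ZClos.Main
import Mathlib.RingTheory.Spectrum.Prime.Module

set_option autoImplicit false
universe u

namespace Groth.Agent.H14.ZClos

open AlgebraicGeometry

variable {A : Type u} [CommRing A]
variable {M : Type u} [AddCommGroup M] [Module A M]

theorem support_localization_eq_univ (hsupp : Module.support A M = Set.univ) (p : Ideal A)
    [p.IsPrime] :
    Module.support (Localization.AtPrime p) (LocalizedModule p.primeCompl M) = Set.univ := by
  rw [Set.eq_univ_iff_forall]
  intro q'
  have hq : PrimeSpectrum.comap (algebraMap A (Localization.AtPrime p)) q' ∈ Module.support A M := by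
    rw [hsupp]; trivial
  rw [Module.mem_support_iff'] at hq ⊢
  obtain ⟨m, hm⟩ := hq
  refine ⟨LocalizedModule.mk m 1, ?_⟩
  intro y hy hzero
  obtain ⟨r, s, rfl⟩ := IsLocalization.exists_mk'_eq p.primeCompl y
  rw [IsLocalization.mk'_mem_iff] at hy
  rw [← Localization.mk_eq_mk', LocalizedModule.mk_smul_mk, mk_eq_zero_iff'] at hzero
  obtain ⟨t, ht, htr⟩ := hzero
  rw [← mul_smul] at htr
  have hmem : t * r ∈ (PrimeSpectrum.comap (algebraMap A (Localization.AtPrime p)) q').asIdeal := by
    by_contra hcon
    exact hm _ hcon htr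
  rw [PrimeSpectrum.comap_asIdeal, Ideal.mem_comap, map_mul] at hmem
  rcases q'.2.mem_or_mem hmem with h1 | h1
  · have hu : IsUnit (algebraMap A (Localization.AtPrime p) t) :=
      IsLocalization.map_units (Localization.AtPrime p) (⟨t, ht⟩ : p.primeCompl)
    exact q'.2.ne_top (Ideal.eq_top_of_isUnit_mem _ h1 hu)
  · exact hy h1

theorem supportDim_localization (hsupp : Module.support A M = Set.univ) (p : Ideal A)
    [p.IsPrime] :
    Module.supportDim (Localization.AtPrime p) (LocalizedModule p.primeCompl M) =
      ((p.height : ℕ∞) : WithBot ℕ∞) := by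
  unfold Module.supportDim
  rw [support_localization_eq_univ hsupp p,
    ← IsLocalization.AtPrime.ringKrullDim_eq_height p (Localization.AtPrime p)]
  exact Order.krullDim_eq_of_orderIso OrderIso.Set.univ

theorem hasSk_iff (k : ℕ) (hsupp : Module.support A M = Set.univ) :
    LocCoh.HasSk k A M ↔ ∀ (p : Ideal A) [p.IsPrime],
      min (k : ℕ∞) p.height ≤
        LocCoh.depth (Localization.AtPrime p) (LocalizedModule p.primeCompl M) := by
  unfold LocCoh.HasSk
  refine forall_congr' fun p => forall_congr' fun hp => ?_
  rw [supportDim_localization hsupp p]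
  have hk : (k : WithBot ℕ∞) = ((k : ℕ∞) : WithBot ℕ∞) := rfl
  rw [hk, ← WithBot.coe_min, WithBot.coe_le_coe]

theorem stableUnderSpecialization_Zge (n : ℕ) : StableUnderSpecialization (EGA4.Zge A n) := by
  intro x y hxy hx
  have hle : x ≤ y := (PrimeSpectrum.le_iff_specializes x y).mpr hxy
  exact le_trans hx (Ideal.height_mono hle)

variable [IsNoetherianRing A] [Module.Finite A M]

theorem hasSk_one_iff (hsupp : Module.support A M = Set.univ) :
    LocCoh.HasSk 1 A M ↔ EGA4.IsPureAlong (EGA4.Zge A 1) M := by
  rw [hasSk_iff 1 hsupp, isPureAlong_iff_depth _ (stableUnderSpecialization_Zge 1)]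
  constructor
  · intro h p hp
    have := h p.asIdeal
    have hp' : (1 : ℕ∞) ≤ p.asIdeal.height := by simpa [EGA4.Zge] using hp
    rwa [Nat.cast_one, min_eq_left hp'] at this
  · intro h p hpprime
    by_cases h1 : (1 : ℕ∞) ≤ p.height
    · have := h ⟨p, hpprime⟩ (by simpa [EGA4.Zge] using h1)
      exact le_trans (min_le_left _ _) (by simpa using this)
    · have h0 : p.height = 0 := by
        rw [Order.one_le_iff_ne_zero, not_not] at h1
        exact h1
      rw [h0]
      simp

theorem hasSk_two_iff (hsupp : Module.support A M = Set.univ) :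
    LocCoh.HasSk 2 A M ↔
      (EGA4.IsClosedAlong (EGA4.Zge A 2) M ∧ EGA4.IsPureAlong (EGA4.Zge A 1) M) := by
  rw [hasSk_iff 2 hsupp, isPureAlong_iff_depth _ (stableUnderSpecialization_Zge 1),
    isClosedAlong_iff_depth _ (stableUnderSpecialization_Zge 2)]
  constructor
  · intro h
    refine ⟨fun p hp => ?_, fun p hp => ?_⟩
    · have := h p.asIdeal
      have hp' : (2 : ℕ∞) ≤ p.asIdeal.height := by simpa [EGA4.Zge] using hp
      rwa [Nat.cast_ofNat, min_eq_left hp'] at this
    · have := h p.asIdeal
      have hp' : (1 : ℕ∞) ≤ p.asIdeal.height := by simpa [EGA4.Zge] using hp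
      refine le_trans ?_ this
      rw [Nat.cast_ofNat]
      exact le_min (by norm_num) hp'
  · rintro ⟨h2, h1⟩ p hpprime
    by_cases hh2 : (2 : ℕ∞) ≤ p.height
    · have := h2 ⟨p, hpprime⟩ (by simpa [EGA4.Zge] using hh2)
      exact le_trans (min_le_left _ _) (by simpa using this)
    · by_cases hh1 : (1 : ℕ∞) ≤ p.height
      · have := h1 ⟨p, hpprime⟩ (by simpa [EGA4.Zge] using hh1)
        have hlt : p.height < 2 := not_le.mp hh2
        have hle1 : p.height ≤ 1 := by
          have : (2 : ℕ∞) = 1 + 1 := by norm_num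
          rw [this] at hlt
          exact (ENat.lt_add_one_iff (by norm_num)).mp hlt
        exact le_trans (min_le_right _ _) (le_trans hle1 this)
      · have h0 : p.height = 0 := by
          rw [Order.one_le_iff_ne_zero, not_not] at hh1
          exact hh1
        rw [h0]
        simp

end Groth.Agent.H14.ZClos
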