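import Mathlib.RingTheory.Regular.RegularSequence

set_option autoImplicit false
universe u v

namespace Groth.Agent.H14.ZClos

open scoped Pointwise

variable {A : Type u} [CommRing A] {M : Type v} [AddCommGroup M] [Module A M]

theorem mem_smul_top_iff (a : A) (x : M) :
    x ∈ a • (⊤ : Submodule A M) ↔ ∃ y : M, a • y = x := by
  rw [Submodule.mem_smul_pointwise_iff_exists]
  simp

/-- Elementwise form of regularity on `M/aM`. -/
theorem quot_regular_elem {a b : A} (hb : IsSMulRegular (QuotSMulTop a M) b) (x y : M)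
    (h : b • x = a • y) : ∃ y' : M, x = a • y' := by
  have h0 : b • (Submodule.Quotient.mk x : QuotSMulTop a M) = 0 := by
    rw [← Submodule.Quotient.mk_smul, Submodule.Quotient.mk_eq_zero, mem_smul_top_iff]
    exact ⟨y, h.symm⟩
  have h1 : (Submodule.Quotient.mk x : QuotSMulTop a M) = 0 := hb.right_eq_zero_of_smul h0
  rw [Submodule.Quotient.mk_eq_zero, mem_smul_top_iff] at h1
  obtain ⟨y', hy'⟩ := h1
  exact ⟨y', hy'.symm⟩

theorem quot_regular_of_elem {a b : A} (h : ∀ x y : M, b • x = a • y → ∃ y' : M, x = a • y') :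
    IsSMulRegular (QuotSMulTop a M) b := by
  rw [isSMulRegular_iff_right_eq_zero_of_smul]
  intro z hz
  obtain ⟨x, rfl⟩ := Submodule.Quotient.mk_surjective _ z
  rw [← Submodule.Quotient.mk_smul, Submodule.Quotient.mk_eq_zero, mem_smul_top_iff] at hz
  obtain ⟨y, hy⟩ := hz
  obtain ⟨y', hy'⟩ := h x y hy.symm
  rw [Submodule.Quotient.mk_eq_zero, mem_smul_top_iff]
  exact ⟨y', hy'.symm⟩

theorem quot_pow_regular_elem_one {a b : A} (ha : IsSMulRegular M a)
    (hb : IsSMulRegular (QuotSMulTop a M) b) (k : ℕ) :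
    ∀ x y : M, b • x = a ^ k • y → ∃ y' : M, x = a ^ k • y' := by
  induction k with
  | zero => intro x y _; exact ⟨x, by simp⟩
  | succ k ih =>
    intro x y h
    rw [pow_succ', mul_smul] at h
    obtain ⟨x', rfl⟩ := quot_regular_elem hb x _ h
    rw [smul_comm b a x'] at h
    have h' : b • x' = a ^ k • y := ha h
    obtain ⟨y', rfl⟩ := ih x' y h'
    exact ⟨y', by rw [pow_succ', mul_smul]⟩

theorem quot_pow_regular_elem {a b : A} (ha : IsSMulRegular M a)
    (hb : IsSMulRegular (QuotSMulTop a M) b) (k l : ℕ) :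
    ∀ x y : M, b ^ l • x = a ^ k • y → ∃ y' : M, x = a ^ k • y' := by
  induction l with
  | zero => intro x y h; exact ⟨y, by simpa using h⟩
  | succ l ih =>
    intro x y h
    rw [pow_succ', mul_smul] at h
    obtain ⟨y', hy'⟩ := quot_pow_regular_elem_one ha hb k _ y h
    exact ih x y' hy'

end Groth.Agent.H14.ZClos
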