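import Groth.Agent.H14.ZClos.Sheaf
import Groth.Agent.H14.ZClos.RegElem

set_option autoImplicit false
universe u

namespace Groth.Agent.H14.ZClos

open AlgebraicGeometry StructureSheaf CategoryTheory Opposite TopologicalSpace

variable {A : Type u} [CommRing A] {M : Type u} [AddCommGroup M] [Module A M]

theorem basicOpen_le_opn {J : Ideal A} {a : A} (ha : a ∈ J) :
    PrimeSpectrum.basicOpen a ≤ opn A J := by
  intro q hq
  exact (mem_opn (J := J) q).mpr (fun hJ => hq (hJ ha))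

/-- If `J` contains an `M`-regular element then `M → Γ(D(J), M~)` is injective. -/
theorem toOpen_injective_of_regular {J : Ideal A} {a : A} (haJ : a ∈ J)
    (ha : IsSMulRegular M a) : Function.Injective (toOpenₗ A M (opn A J)) := by
  rw [toOpen_injective_iff]
  intro m hm
  obtain ⟨k, hk⟩ := exists_pow_smul_eq_zero_of_toOpen_basicOpen a m
    (fun y hy => hm y (basicOpen_le_opn haJ hy))
  exact (ha.pow k).right_eq_zero_of_smul hk

/-- If `J` contains a weakly `M`-regular sequence `a, b` then `M → Γ(D(J), M~)` is surjective. -/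
theorem toOpen_surjective_of_regular {J : Ideal A} {a b : A} (haJ : a ∈ J) (hbJ : b ∈ J)
    (ha : IsSMulRegular M a) (hb : IsSMulRegular (QuotSMulTop a M) b) :
    Function.Surjective (toOpenₗ A M (opn A J)) := by
  intro σ
  obtain ⟨m, k, hm⟩ := exists_eq_mk_on_basicOpen σ a (basicOpen_le_opn haJ)
  obtain ⟨n, l, hn⟩ := exists_eq_mk_on_basicOpen σ b (basicOpen_le_opn hbJ)
  -- compare on D(ab)
  have hab : ∀ y ∈ PrimeSpectrum.basicOpen (a * b), ∃ s ∉ y.asIdeal,
      s • (b ^ l • m - a ^ k • n) = 0 := by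
    intro y hy
    rw [PrimeSpectrum.basicOpen_mul] at hy
    have h1 := hm y hy.1
    have h2 := hn y hy.2
    have h3 : σ.1 ⟨y, basicOpen_le_opn haJ hy.1⟩ = σ.1 ⟨y, basicOpen_le_opn hbJ hy.2⟩ := rfl
    rw [h3, h2, LocalizedModule.mk_eq] at h1
    obtain ⟨u, hu⟩ := h1
    refine ⟨u, u.2, ?_⟩
    rw [smul_sub]
    rw [sub_eq_zero]
    simpa [Submonoid.smul_def] using hu.symm
  obtain ⟨N, hN⟩ := exists_pow_smul_eq_zero_of_toOpen_basicOpen (a * b) _ hab
  rw [mul_pow, mul_smul] at hN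
  have hN' : b ^ N • (b ^ l • m - a ^ k • n) = 0 := (ha.pow N).right_eq_zero_of_smul hN
  rw [smul_sub, sub_eq_zero, ← mul_smul, ← pow_add, smul_comm] at hN'
  obtain ⟨m', rfl⟩ := quot_pow_regular_elem ha hb k (N + l) m _ hN'
  refine ⟨m', ?_⟩
  have hzero : σ - toOpenₗ A M (opn A J) m' = 0 := by
    apply sec_eq_zero_of_vanish_basicOpen _ a ha (basicOpen_le_opn haJ)
    intro y hy
    change σ.1 ⟨y, _⟩ - (toOpenₗ A M (opn A J) m').1 ⟨y, _⟩ = 0
    rw [hm y hy, toOpen_apply, sub_eq_zero]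
    exact LocalizedModule.mk_cancel (⟨a ^ k, y.asIdeal.primeCompl.pow_mem hy k⟩ : y.asIdeal.primeCompl) m'
  exact (sub_eq_zero.mp hzero).symm

end Groth.Agent.H14.ZClos
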