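import Groth.Agent.H14.ZClos.Closed

set_option autoImplicit false
universe u

namespace Groth.Agent.H14.ZClos

open AlgebraicGeometry StructureSheaf CategoryTheory Opposite TopologicalSpace

variable {A : Type u} [CommRing A] {M : Type u} [AddCommGroup M] [Module A M]

theorem exists_mem_notMem_of_mem_opn {J : Ideal A} (q : PrimeSpectrum.Top A) (hq : q ∈ opn A J) :
    ∃ f ∈ J, f ∉ q.asIdeal :=
  SetLike.not_le_iff_exists.mp ((mem_opn q).mp hq)

/-- Glue a compatible family of "fractions" `n f / f` (`f ∈ J`) to a section over `D(J)`. -/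
theorem exists_glue {J : Ideal A} (n : A → M) (hn : ∀ f ∈ J, ∀ g ∈ J, g • n f = f • n g) :
    ∃ σ : Sec A M (opn A J), ∀ (q : PrimeSpectrum.Top A) (hq : q ∈ opn A J) (f : A) (_ : f ∈ J)
      (hfq : f ∉ q.asIdeal), σ.1 ⟨q, hq⟩ = LocalizedModule.mk (n f) ⟨f, hfq⟩ := by
  classical
  let fq : (x : opn A J) → A := fun x => (exists_mem_notMem_of_mem_opn x.1 x.2).choose
  have hfqJ : ∀ x : opn A J, fq x ∈ J := fun x => (exists_mem_notMem_of_mem_opn x.1 x.2).choose_spec.1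
  have hfqx : ∀ x : opn A J, fq x ∉ x.1.asIdeal :=
    fun x => (exists_mem_notMem_of_mem_opn x.1 x.2).choose_spec.2
  let σf : (x : opn A J) → Localizations M x.1 :=
    fun x => LocalizedModule.mk (n (fq x)) ⟨fq x, hfqx x⟩
  have key : ∀ (x : opn A J) (f : A) (_ : f ∈ J) (hfx : f ∉ x.1.asIdeal),
      σf x = LocalizedModule.mk (n f) ⟨f, hfx⟩ := by
    intro x f hfJ hfx
    change LocalizedModule.mk (n (fq x)) ⟨fq x, hfqx x⟩ = _
    rw [LocalizedModule.mk_eq]
    refine ⟨1, ?_⟩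
    simp only [one_smul, Submonoid.smul_def]
    exact hn (fq x) (hfqJ x) f hfJ
  refine ⟨⟨σf, ?_⟩, ?_⟩
  · intro x
    refine ⟨PrimeSpectrum.basicOpen (fq x), hfqx x, homOfLE (basicOpen_le_opn (hfqJ x)),
      n (fq x), fq x, fun y => ⟨y.2, ?_⟩⟩
    exact key ⟨y.1, basicOpen_le_opn (hfqJ x) y.2⟩ (fq x) (hfqJ x) y.2
  · intro q hq f hfJ hfq
    exact key ⟨q, hq⟩ f hfJ hfq

end Groth.Agent.H14.ZClos
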