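import Groth.Agent.H14.ZClos.Pure
import Groth.Agent.H14.ZClos.DepthLocal

set_option autoImplicit false
universe u

namespace Groth.Agent.H14.ZClos

open AlgebraicGeometry StructureSheaf CategoryTheory Opposite TopologicalSpace

variable {A : Type u} [CommRing A] [IsNoetherianRing A]
variable {M : Type u} [AddCommGroup M] [Module A M]

/-- Second half of S2719. -/
theorem isPureAlong_iff_depth [Module.Finite A M] (Z : Set (PrimeSpectrum A))
    (hZ : StableUnderSpecialization Z) :
    EGA4.IsPureAlong Z M ↔ ∀ p : PrimeSpectrum A, p ∈ Z →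
      (1 : ℕ∞) ≤ LocCoh.depth (Localization.AtPrime p.asIdeal)
        (LocalizedModule p.asIdeal.primeCompl M) := by
  rw [isPureAlong_iff_associatedPrimes Z hZ]
  constructor
  · intro h p hp
    rw [one_le_depth_localization_iff]
    exact fun hass => h p hass hp
  · intro h p hass hp
    exact (one_le_depth_localization_iff M p.asIdeal).mp (h p hp) hass

/-- depth ≥ 2 along `V(J)` implies bijectivity of `M → Γ(D(J), M~)`. -/
theorem toOpen_bijective_of_depth [Module.Finite A M] (J : Ideal A)
    (h : ∀ (p : Ideal A) [p.IsPrime], J ≤ p →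
      (2 : ℕ∞) ≤ LocCoh.depth (Localization.AtPrime p) (LocalizedModule p.primeCompl M)) :
    Function.Bijective (toOpenₗ A M (opn A J)) := by
  obtain ⟨a, haJ, ha⟩ := D15.exists_isSMulRegular_of_depth_pos M J
    (fun p _ hJp => le_trans (by norm_num) (h p hJp))
  obtain ⟨b, hbJ, hb⟩ := D15.exists_isSMulRegular_of_depth_pos (QuotSMulTop a M) J
    (fun p _ hJp => by
      have := D15.le_depth_localization_quotSMulTop M p a (hJp haJ) ha 1
        (by simpa using h p hJp)
      simpa using this)
  exact ⟨toOpen_injective_of_regular haJ ha, toOpen_surjective_of_regular haJ hbJ ha hb⟩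

/-- Key step for the converse: if `a ∈ p` is `M`-regular and `M → Γ(D(p), M~)` is bijective,
then `p` is not an associated prime of `M/aM`. -/
theorem notMem_associatedPrimes_quot_of_bijective (p : Ideal A) [hpp : p.IsPrime] (a : A)
    (ha : IsSMulRegular M a)
    (hbij : Function.Bijective (toOpenₗ A M (opn A p))) :
    p ∉ associatedPrimes A (QuotSMulTop a M) := by
  classical
  intro hass
  obtain ⟨_, x, hx⟩ := isAssociatedPrime_iff.mp hass
  obtain ⟨m, rfl⟩ := Submodule.Quotient.mk_surjective _ x
  have hdiv : ∀ f ∈ p, ∃ y : M, a • y = f • m := by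
    intro f hf
    rw [hx, Submodule.mem_colon_singleton, Submodule.mem_bot, ← Submodule.Quotient.mk_smul,
      Submodule.Quotient.mk_eq_zero, mem_smul_top_iff] at hf
    exact hf
  let n : A → M := fun f => if hf : f ∈ p then (hdiv f hf).choose else 0
  have hn : ∀ f ∈ p, a • n f = f • m := by
    intro f hf
    simp only [n, dif_pos hf]
    exact (hdiv f hf).choose_spec
  have hcompat : ∀ f ∈ p, ∀ g ∈ p, g • n f = f • n g := by
    intro f hf g hg
    apply ha
    change a • g • n f = a • f • n g
    rw [smul_comm a g, smul_comm a f, hn f hf, hn g hg, smul_comm]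
  obtain ⟨σ, hσ⟩ := exists_glue n hcompat
  obtain ⟨w, hw⟩ := hbij.2 σ
  have hd : a • w - m = 0 := by
    apply (toOpen_injective_iff _).mp hbij.1
    intro q hq
    obtain ⟨f, hfp, hfq⟩ := exists_mem_notMem_of_mem_opn q hq
    have h1 := hσ q hq f hfp hfq
    rw [← hw, toOpen_apply, LocalizedModule.mk_eq] at h1
    obtain ⟨u, hu⟩ := h1
    refine ⟨u * f, q.asIdeal.primeCompl.mul_mem u.2 hfq, ?_⟩
    simp only [one_smul, Submonoid.smul_def] at hu
    change (u : A) • f • w = (u : A) • n f at hu
    rw [smul_sub, sub_eq_zero, mul_smul, smul_comm f a w, smul_comm (u : A) a (f • w), hu,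
      smul_comm a (u : A) (n f), hn f hfp, mul_smul]
  have hm : m = a • w := (sub_eq_zero.mp hd).symm
  apply hpp.ne_top
  rw [hx, hm]
  ext r
  simp only [Submodule.mem_colon_singleton, Submodule.mem_bot, Submodule.mem_top, iff_true]
  rw [← Submodule.Quotient.mk_smul, Submodule.Quotient.mk_eq_zero, mem_smul_top_iff]
  exact ⟨r • w, by rw [smul_comm]⟩

/-- Bijectivity of `M → Γ(D(J), M~)` for all `V(J) ⊆ Z` implies depth ≥ 2 along `Z`. -/
theorem two_le_depth_of_bijective [Module.Finite A M] (Z : Set (PrimeSpectrum A))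
    (hZ : StableUnderSpecialization Z)
    (h : ∀ J : Ideal A, PrimeSpectrum.zeroLocus (J : Set A) ⊆ Z →
      Function.Bijective (toOpenₗ A M (opn A J)))
    (p : PrimeSpectrum A) (hp : p ∈ Z) :
    (2 : ℕ∞) ≤ LocCoh.depth (Localization.AtPrime p.asIdeal)
      (LocalizedModule p.asIdeal.primeCompl M) := by
  have hpure : ∀ q : PrimeSpectrum A, q ∈ Z → q.asIdeal ∉ associatedPrimes A M := by
    intro q hq hass
    have := (toOpen_injective_iff_associatedPrimes (M := M) q.asIdeal).mp
      (h q.asIdeal (zeroLocus_subset_of_mem hZ hq)).1 q.asIdeal hass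
    exact this le_rfl
  obtain ⟨a, hap, ha⟩ := D15.exists_isSMulRegular_of_depth_pos M p.asIdeal
    (fun q hqprime hpq => (one_le_depth_localization_iff M q).mpr
      (hpure ⟨q, hqprime⟩ (hZ ((PrimeSpectrum.le_iff_specializes p ⟨q, hqprime⟩).mp hpq) hp)))
  have h3 := notMem_associatedPrimes_quot_of_bijective p.asIdeal a ha
    (h p.asIdeal (zeroLocus_subset_of_mem hZ hp))
  exact two_le_depth_localization_of M p.asIdeal a hap ha h3

/-- S2720: `Z`-closed iff depth ≥ 2 along `Z`. -/
theorem isClosedAlong_iff_depth [Module.Finite A M] (Z : Set (PrimeSpectrum A))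
    (hZ : StableUnderSpecialization Z) :
    EGA4.IsClosedAlong Z M ↔ ∀ p : PrimeSpectrum A, p ∈ Z →
      (2 : ℕ∞) ≤ LocCoh.depth (Localization.AtPrime p.asIdeal)
        (LocalizedModule p.asIdeal.primeCompl M) := by
  rw [isClosedAlong_iff]
  constructor
  · intro h p hp
    exact two_le_depth_of_bijective Z hZ h p hp
  · intro h J hJ
    apply toOpen_bijective_of_depth
    intro p hpprime hJp
    exact h ⟨p, hpprime⟩ (hJ ((PrimeSpectrum.mem_zeroLocus _ _).mpr (SetLike.coe_subset_coe.mpr hJp)))

end Groth.Agent.H14.ZClos
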