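import Groth.Agent.H14.ZClos.Glue
import Mathlib.RingTheory.Ideal.AssociatedPrime.Basic

set_option autoImplicit false
universe u

namespace Groth.Agent.H14.ZClos

open AlgebraicGeometry StructureSheaf CategoryTheory Opposite TopologicalSpace

variable {A : Type u} [CommRing A] {M : Type u} [AddCommGroup M] [Module A M]

theorem isPureAlong_iff (Z : Set (PrimeSpectrum A)) :
    EGA4.IsPureAlong Z M ↔ ∀ J : Ideal A, PrimeSpectrum.zeroLocus (J : Set A) ⊆ Z →
      Function.Injective (toOpenₗ A M (opn A J)) :=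
  forall_congr' fun J => imp_congr_right fun _ => restrCompl_injective_iff A J M

theorem isClosedAlong_iff (Z : Set (PrimeSpectrum A)) :
    EGA4.IsClosedAlong Z M ↔ ∀ J : Ideal A, PrimeSpectrum.zeroLocus (J : Set A) ⊆ Z →
      Function.Bijective (toOpenₗ A M (opn A J)) :=
  forall_congr' fun J => imp_congr_right fun _ =>
    and_congr (restrCompl_injective_iff A J M) (restrCompl_surjective_iff A J M)

/-- Injectivity of `M → Γ(D(J), M~)` iff no associated prime of `M` contains `J`. -/
theorem toOpen_injective_iff_associatedPrimes [IsNoetherianRing A] (J : Ideal A) :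
    Function.Injective (toOpenₗ A M (opn A J)) ↔ ∀ p ∈ associatedPrimes A M, ¬ J ≤ p := by
  rw [toOpen_injective_iff]
  constructor
  · intro h p hp hJp
    have hp' := (isAssociatedPrime_iff.mp hp)
    obtain ⟨hprime, x, hx⟩ := hp'
    have hx0 : x = 0 := by
      apply h
      intro q hq
      have hJq : ¬ J ≤ q.asIdeal := (mem_opn q).mp hq
      have hpq : ¬ p ≤ q.asIdeal := fun hpq => hJq (hJp.trans hpq)
      obtain ⟨s, hsp, hsq⟩ := SetLike.not_le_iff_exists.mp hpq
      refine ⟨s, hsq, ?_⟩
      rw [hx, Submodule.mem_colon_singleton, Submodule.mem_bot] at hsp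
      exact hsp
    apply hprime.ne_top
    rw [hx, hx0]
    ext r
    simp [Submodule.mem_colon_singleton]
  · intro h m hm
    by_contra hm0
    obtain ⟨P, hP, hle⟩ := exists_le_isAssociatedPrime_of_isNoetherianRing A m hm0
    have hPprime : P.IsPrime := hP.isPrime
    have hJP : ¬ J ≤ P := h P hP
    obtain ⟨s, hsP, hs⟩ := hm ⟨P, hPprime⟩ ((mem_opn _).mpr hJP)
    apply hsP
    apply hle
    rw [Submodule.mem_colon_singleton, Submodule.mem_bot]
    exact hs

theorem zeroLocus_subset_of_mem {Z : Set (PrimeSpectrum A)} (hZ : StableUnderSpecialization Z)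
    {p : PrimeSpectrum A} (hp : p ∈ Z) : PrimeSpectrum.zeroLocus (p.asIdeal : Set A) ⊆ Z := by
  intro q hq
  rw [PrimeSpectrum.mem_zeroLocus, SetLike.coe_subset_coe] at hq
  exact hZ ((PrimeSpectrum.le_iff_specializes p q).mp hq) hp

/-- First half of S2719. -/
theorem isPureAlong_iff_associatedPrimes [IsNoetherianRing A] (Z : Set (PrimeSpectrum A))
    (hZ : StableUnderSpecialization Z) :
    EGA4.IsPureAlong Z M ↔ ∀ p : PrimeSpectrum A, p.asIdeal ∈ associatedPrimes A M → p ∉ Z := by
  rw [isPureAlong_iff]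
  constructor
  · intro h p hp hpZ
    have := (toOpen_injective_iff_associatedPrimes (M := M) p.asIdeal).mp
      (h p.asIdeal (zeroLocus_subset_of_mem hZ hpZ)) p.asIdeal hp
    exact this le_rfl
  · intro h J hJ
    rw [toOpen_injective_iff_associatedPrimes]
    intro p hp hJp
    have hprime : p.IsPrime := (AssociatedPrimes.mem_iff.mp hp).isPrime
    exact h ⟨p, hprime⟩ hp (hJ ((PrimeSpectrum.mem_zeroLocus _ _).mpr (SetLike.coe_subset_coe.mpr hJp)))

end Groth.Agent.H14.ZClos
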