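import Groth.Prelude.Def_EGA4c

set_option autoImplicit false
universe u

namespace Groth.Agent.H14.ZClos

open AlgebraicGeometry StructureSheaf CategoryTheory Opposite TopologicalSpace

variable (A : Type u) [CommRing A] (J : Ideal A) (M : Type u) [AddCommGroup M] [Module A M]

/-- The open complement of `V(J)` as an open of `PrimeSpectrum.Top A`. -/
def opn : Opens (PrimeSpectrum.Top A) := EGA4.openCompl A J

variable {A} in
theorem mem_opn {J : Ideal A} (q : PrimeSpectrum.Top A) : q ∈ opn A J ↔ ¬ J ≤ q.asIdeal := by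
  exact Iff.rfl

theorem restr_toOpen (m : M) :
    (EGA4.restrCompl A J M) (toOpenₗ A M ⊤ m) = toOpenₗ A M (opn A J) m := rfl

theorem restrCompl_injective_iff :
    Function.Injective (EGA4.restrCompl A J M) ↔ Function.Injective (toOpenₗ A M (opn A J)) := by
  have hcomp : (fun m => (EGA4.restrCompl A J M) (toOpenₗ A M ⊤ m)) = toOpenₗ A M (opn A J) :=
    funext (restr_toOpen A J M)
  rw [← hcomp]
  exact (Function.Injective.of_comp_iff' _ (toOpenₗ_top_bijective (R := A) (M := M))).symm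

theorem restrCompl_surjective_iff :
    Function.Surjective (EGA4.restrCompl A J M) ↔ Function.Surjective (toOpenₗ A M (opn A J)) := by
  have hcomp : (fun m => (EGA4.restrCompl A J M) (toOpenₗ A M ⊤ m)) = toOpenₗ A M (opn A J) :=
    funext (restr_toOpen A J M)
  rw [← hcomp]
  exact (Function.Surjective.of_comp_iff _ (toOpenₗ_top_bijective (R := A) (M := M)).2).symm

/-! ### Pointwise description of sections -/

variable {A M}

theorem mk_eq_zero_iff' {S : Submonoid A} (m : M) (t : S) :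
    LocalizedModule.mk m t = 0 ↔ ∃ s ∈ S, s • m = 0 := by
  rw [← LocalizedModule.zero_mk (1 : S), LocalizedModule.mk_eq]
  constructor
  · rintro ⟨u, hu⟩
    refine ⟨u, u.2, ?_⟩
    simp only [one_smul, smul_zero] at hu
    exact hu
  · rintro ⟨s, hs, h⟩
    refine ⟨⟨s, hs⟩, ?_⟩
    simp only [one_smul, smul_zero]
    change s • m = 0
    exact h

/-- Sections of `M~` over `U` in the concrete (Hartshorne) model. -/
abbrev Sec (A : Type u) [CommRing A] (M : Type u) [AddCommGroup M] [Module A M]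
    (U : Opens (PrimeSpectrum.Top A)) : Type u :=
  (structureSheafInType A M).obj.obj (op U)

theorem sec_ext {U : Opens (PrimeSpectrum.Top A)} {s t : Sec A M U}
    (h : ∀ x : U, s.1 x = t.1 x) : s = t :=
  Subtype.ext (funext h)

theorem toOpen_apply (U : Opens (PrimeSpectrum.Top A)) (m : M) (x : U) :
    (toOpenₗ A M U m).1 x = LocalizedModule.mk m 1 := rfl

theorem toOpen_eq_zero_iff (U : Opens (PrimeSpectrum.Top A)) (m : M) :
    toOpenₗ A M U m = 0 ↔ ∀ q ∈ U, ∃ s ∉ q.asIdeal, s • m = 0 := by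
  constructor
  · intro h q hq
    have := congrArg (fun σ : Sec A M U => σ.1 ⟨q, hq⟩) h
    change LocalizedModule.mk m 1 = 0 at this
    exact (mk_eq_zero_iff' m 1).mp this
  · intro h
    apply sec_ext
    intro x
    change LocalizedModule.mk m 1 = 0
    exact (mk_eq_zero_iff' m 1).mpr (h x.1 x.2)

theorem toOpen_injective_iff (U : Opens (PrimeSpectrum.Top A)) :
    Function.Injective (toOpenₗ A M U) ↔
      ∀ m : M, (∀ q ∈ U, ∃ s ∉ q.asIdeal, s • m = 0) → m = 0 := by
  rw [injective_iff_map_eq_zero]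
  exact forall_congr' fun m => by rw [toOpen_eq_zero_iff]

theorem eq_mk_of_smul_eq {S : Submonoid A} (t : S) (z : LocalizedModule S M) (m : M)
    (h : (t : A) • z = LocalizedModule.mk m 1) : z = LocalizedModule.mk m t := by
  induction z using LocalizedModule.induction_on with
  | h n u =>
    rw [LocalizedModule.smul'_mk, LocalizedModule.mk_eq] at h
    obtain ⟨w, hw⟩ := h
    rw [LocalizedModule.mk_eq]
    refine ⟨w, ?_⟩
    simpa [Submonoid.smul_def] using hw

theorem exists_eq_mk_on_basicOpen {U : Opens (PrimeSpectrum.Top A)} (s : Sec A M U) (a : A)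
    (ha : PrimeSpectrum.basicOpen a ≤ U) :
    ∃ (m : M) (k : ℕ), ∀ (x : PrimeSpectrum.Top A) (hx : x ∈ PrimeSpectrum.basicOpen a),
      s.1 ⟨x, ha hx⟩ = LocalizedModule.mk m ⟨a ^ k, x.asIdeal.primeCompl.pow_mem hx k⟩ := by
  obtain ⟨⟨m, ⟨_, k, rfl⟩⟩, hm⟩ := IsLocalizedModule.surj (Submonoid.powers a)
    (toOpenₗ A M (PrimeSpectrum.basicOpen a))
    ((structureSheafInType A M).obj.map (homOfLE ha).op s)
  refine ⟨m, k, fun x hx => ?_⟩
  have := congrArg (fun σ : Sec A M (PrimeSpectrum.basicOpen a) => σ.1 ⟨x, hx⟩) hm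
  exact eq_mk_of_smul_eq ⟨a ^ k, x.asIdeal.primeCompl.pow_mem hx k⟩ _ m this

theorem exists_local_mk {U : Opens (PrimeSpectrum.Top A)} (σ : Sec A M U)
    (x : PrimeSpectrum.Top A) (hx : x ∈ U) :
    ∃ (g : A) (_ : g ∉ x.asIdeal) (hg : PrimeSpectrum.basicOpen g ≤ U) (f : M),
      ∀ (y : PrimeSpectrum.Top A) (hy : y ∈ PrimeSpectrum.basicOpen g),
        σ.1 ⟨y, hg hy⟩ = LocalizedModule.mk f ⟨g, hy⟩ := by
  obtain ⟨g, hxg, i, f, hf⟩ := StructureSheaf.exists_const U σ x hx
  refine ⟨g, hxg, i, f, fun y hy => ?_⟩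
  have := congrArg (fun τ : Sec A M (PrimeSpectrum.basicOpen g) => τ.1 ⟨y, hy⟩) hf
  exact this.symm

/-- If `toOpen m` vanishes on `D(a)` then a power of `a` kills `m`. -/
theorem exists_pow_smul_eq_zero_of_toOpen_basicOpen (a : A) (m : M)
    (h : ∀ y ∈ PrimeSpectrum.basicOpen a, ∃ s ∉ y.asIdeal, s • m = 0) :
    ∃ k : ℕ, a ^ k • m = 0 := by
  have h0 : toOpenₗ A M (PrimeSpectrum.basicOpen a) m = 0 :=
    (toOpen_eq_zero_iff _ m).mpr h
  rw [← map_zero (toOpenₗ A M (PrimeSpectrum.basicOpen a)),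
    IsLocalizedModule.eq_iff_exists (Submonoid.powers a)] at h0
  obtain ⟨⟨_, k, rfl⟩, hk⟩ := h0
  refine ⟨k, ?_⟩
  rw [smul_zero] at hk
  exact hk

/-- Vanishing lemma: a section over `U ⊇ D(a)`, with `a` regular on `M`, which vanishes on `D(a)`
is zero. -/
theorem sec_eq_zero_of_vanish_basicOpen {U : Opens (PrimeSpectrum.Top A)} (σ : Sec A M U) (a : A)
    (hreg : IsSMulRegular M a) (ha : PrimeSpectrum.basicOpen a ≤ U)
    (h : ∀ (y : PrimeSpectrum.Top A) (hy : y ∈ PrimeSpectrum.basicOpen a), σ.1 ⟨y, ha hy⟩ = 0) :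
    σ = 0 := by
  apply sec_ext
  intro x
  obtain ⟨g, hxg, hg, f, hf⟩ := exists_local_mk σ x.1 x.2
  change σ.1 x = 0
  have hx : σ.1 x = LocalizedModule.mk f ⟨g, hxg⟩ := hf x.1 hxg
  rw [hx]
  -- on D(g a) the element f dies
  have hfa : ∀ y ∈ PrimeSpectrum.basicOpen (g * a), ∃ s ∉ y.asIdeal, s • f = 0 := by
    intro y hy
    rw [PrimeSpectrum.basicOpen_mul] at hy
    have h1 := hf y hy.1
    have h2 := h y hy.2
    have h3 : σ.1 ⟨y, hg hy.1⟩ = σ.1 ⟨y, ha hy.2⟩ := rfl
    rw [h3, h2] at h1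
    exact (mk_eq_zero_iff' f _).mp h1.symm
  obtain ⟨k, hk⟩ := exists_pow_smul_eq_zero_of_toOpen_basicOpen (g * a) f hfa
  rw [mul_pow, mul_comm, mul_smul] at hk
  have hk' : g ^ k • f = 0 := (hreg.pow k).right_eq_zero_of_smul hk
  exact (mk_eq_zero_iff' f _).mpr ⟨g ^ k, x.1.asIdeal.primeCompl.pow_mem hxg k, hk'⟩

end Groth.Agent.H14.ZClos
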